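import Mathlib

set_option autoImplicit false

/-! A subgroup that is the product of a subgroup and a complement that normalizes it: the first
subgroup is normal in it with quotient isomorphic to the complement; transport of such a structure
along an isomorphism. -/

namespace Cfsg.Agent.Helper9.Trio

/-- a subgroup whose order is the product of the orders of two of its subgroups that meet in the
neutral element only, the second normalizing the first: the first is normal in it with quotient
isomorphic to the second. -/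
theorem split_structure {G : Type*} [Group G] [Finite G] (S N L : Subgroup G)
    (hNS : N ≤ S) (hLS : L ≤ S) (hn : ∀ l ∈ L, ∀ n ∈ N, l * n * l⁻¹ ∈ N)
    (hNL : ∀ x ∈ N, x ∈ L → x = 1) (hcard : Nat.card S = Nat.card N * Nat.card L) :
    ∃ _ : (N.subgroupOf S).Normal, Nonempty (↥S ⧸ N.subgroupOf S ≃* ↥L) := by
  have hLn : L ≤ Subgroup.normalizer (N : Set G) := by
    intro k hk
    rw [Subgroup.mem_normalizer_iff]
    intro h
    constructor
    · intro hh
      exact hn k hk h hh
    · intro hh
      have := hn k⁻¹ (L.inv_mem hk) _ hh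
      rw [inv_inv] at this
      have e : k⁻¹ * (k * h * k⁻¹) * k = h := by group
      rw [e] at this
      exact this
  have hsup : N ⊔ L = S := by
    apply Subgroup.eq_of_le_of_card_ge (sup_le hNS hLS)
    rw [hcard, ← Nat.card_prod]
    let f : ↥N × ↥L → ↥(N ⊔ L) := fun p =>
      ⟨(p.1 : G) * (p.2 : G), Subgroup.mul_mem _ (Subgroup.mem_sup_left p.1.2)
        (Subgroup.mem_sup_right p.2.2)⟩
    have hf : Function.Injective f := by
      rintro ⟨a, b⟩ ⟨c, d⟩ h
      have h1 : (a : G) * b = c * d := congrArg Subtype.val h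
      have h2 : (c : G)⁻¹ * a = d * (b : G)⁻¹ := by
        rw [inv_mul_eq_iff_eq_mul, ← mul_assoc, ← h1, mul_inv_cancel_right]
      have h3 : (c : G)⁻¹ * a = 1 :=
        hNL _ (N.mul_mem (N.inv_mem c.2) a.2) (h2 ▸ L.mul_mem d.2 (L.inv_mem b.2))
      have h4 : (d : G) * (b : G)⁻¹ = 1 := by rw [← h2, h3]
      have e1 : a = c := by
        apply Subtype.ext
        rw [inv_mul_eq_one] at h3
        exact h3.symm
      have e2 : b = d := by
        apply Subtype.ext
        rw [mul_inv_eq_one] at h4
        exact h4.symm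
      rw [e1, e2]
    exact Nat.card_le_card_of_injective f hf
  have hSn : S ≤ Subgroup.normalizer (N : Set G) := by
    rw [← hsup]
    exact sup_le Subgroup.le_normalizer hLn
  have hnormal : (N.subgroupOf S).Normal := Subgroup.normal_subgroupOf_of_le_normalizer hSn
  refine ⟨hnormal, ?_⟩
  let φ : ↥L →* ↥S ⧸ N.subgroupOf S :=
    (QuotientGroup.mk' (N.subgroupOf S)).comp (Subgroup.inclusion hLS)
  have hφ : Function.Injective φ := by
    rw [injective_iff_map_eq_one]
    intro l hl
    have h1 : Subgroup.inclusion hLS l ∈ N.subgroupOf S := by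
      rw [← QuotientGroup.eq_one_iff]
      exact hl
    rw [Subgroup.mem_subgroupOf] at h1
    exact Subtype.ext (hNL _ h1 l.2)
  have hc1 : Nat.card (N.subgroupOf S) = Nat.card N :=
    Nat.card_congr (Subgroup.subgroupOfEquivOfLe hNS).toEquiv
  have hc2 : Nat.card (↥S ⧸ N.subgroupOf S) = Nat.card L := by
    have h := Subgroup.card_eq_card_quotient_mul_card_subgroup (N.subgroupOf S)
    rw [hc1, hcard, mul_comm] at h
    have hpos : 0 < Nat.card N := Nat.card_pos
    exact (Nat.eq_of_mul_eq_mul_right hpos h).symm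
  have hbij : Function.Bijective φ := by
    apply hφ.bijective_of_nat_card_le
    rw [hc2]
  exact ⟨(MulEquiv.ofBijective φ hbij).symm⟩

/-- transport of a normal subgroup with trivial squares and of its quotient along an
isomorphism. -/
theorem transfer_structure {A B H : Type*} [Group A] [Group B] [Group H] (ε : A ≃* B) (m : ℕ)
    (h : ∃ (N : Subgroup A) (_ : N.Normal), Nat.card N = m ∧ (∀ x ∈ N, x * x = 1) ∧
      Nonempty (A ⧸ N ≃* H)) :
    ∃ (N : Subgroup B) (_ : N.Normal), Nat.card N = m ∧ (∀ x ∈ N, x * x = 1) ∧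
      Nonempty (B ⧸ N ≃* H) := by
  obtain ⟨N, hN, hc, hsq, ⟨e⟩⟩ := h
  have hN' : (N.map ε.toMonoidHom).Normal := hN.map ε.toMonoidHom ε.surjective
  refine ⟨N.map ε.toMonoidHom, hN', ?_, ?_, ?_⟩
  · rw [Subgroup.card_map_of_injective ε.injective, hc]
  · rintro _ ⟨y, hy, rfl⟩
    change ε y * ε y = 1
    rw [← map_mul, hsq y hy, map_one]
  · exact ⟨(QuotientGroup.congr N (N.map ε.toMonoidHom) ε rfl).symm.trans e⟩

end Cfsg.Agent.Helper9.Trio
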