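import Mathlib
import Cfsg.Prelude
import Cfsg.Agent.Helper9.Trio.Abs
import Cfsg.Agent.Helper9.Trio.Data
import Cfsg.Agent.Helper9.Golay.FamStab
import Cfsg.Agent.Helper9.Golay.OctPairs
import Cfsg.Agent.Helper9.Golay.TrioOct3
import Cfsg.Agent.Helper9.Golay.Fus24

set_option autoImplicit false

/-!
The structure of the stabilizer of a trio in the group of the code.
-/

namespace Cfsg.Agent.Helper9.Trio

open Cfsg Cfsg.Agent.Helper9.Golay
open scoped Pointwise

/-! ### every permutation of the three octads is induced -/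

theorem swap_mem_range {T : Finset (Finset GolayPt)} (hT : T ∈ trios) (a b : ↥T) (hab : a ≠ b) :
    Equiv.swap a b ∈ (famHom T).range := by
  have hab' : (a : Finset GolayPt) ≠ b := fun h => hab (Subtype.ext h)
  have hlt : ({(a : Finset GolayPt), (b : Finset GolayPt)} : Finset (Finset GolayPt)).card <
      T.card := by
    rw [Finset.card_pair hab', hT.1]; omega
  obtain ⟨c, hcT, hcn⟩ := Finset.exists_mem_notMem_of_card_lt_card hlt
  simp only [Finset.mem_insert, Finset.mem_singleton, not_or] at hcn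
  obtain ⟨hca, hcb⟩ := hcn
  have hco : c ∈ octads := hT.2.1 c hcT
  have hao : (a : Finset GolayPt) ∈ octads := hT.2.1 _ a.2
  have hbo : (b : Finset GolayPt) ∈ octads := hT.2.1 _ b.2
  have hdca : Disjoint c (a : Finset GolayPt) := hT.2.2 c hcT _ a.2 hca
  have hdcb : Disjoint c (b : Finset GolayPt) := hT.2.2 c hcT _ b.2 hcb
  have hcard : (c ∩ (a : Finset GolayPt)).card = (c ∩ (b : Finset GolayPt)).card := by
    rw [Finset.disjoint_iff_inter_eq_empty.mp hdca, Finset.disjoint_iff_inter_eq_empty.mp hdcb]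
  obtain ⟨g, hg, hgc, hga⟩ := octad_pair_conj hco hao hbo hcard
  have hTa : T = trioOf c a := trio_eq_trioOf hT hcT a.2 hca
  have hTb : T = trioOf c b := trio_eq_trioOf hT hcT b.2 hcb
  have hb_eq : (b : Finset GolayPt) = (c ∪ (a : Finset GolayPt))ᶜ := by
    have : (b : Finset GolayPt) ∈ trioOf c a := by
      rw [← hTa]; exact b.2
    simp only [trioOf, Finset.mem_insert, Finset.mem_singleton] at this
    rcases this with h | h | h
    · exact absurd h.symm hcb
    · exact absurd h.symm hab'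
    · exact h
  have ha_eq : (a : Finset GolayPt) = (c ∪ (b : Finset GolayPt))ᶜ := by
    have : (a : Finset GolayPt) ∈ trioOf c b := by
      rw [← hTb]; exact a.2
    simp only [trioOf, Finset.mem_insert, Finset.mem_singleton] at this
    rcases this with h | h | h
    · exact absurd h.symm hca
    · exact absurd h hab'
    · exact h
  have hgb : g • (b : Finset GolayPt) = a := by
    rw [hb_eq, smul_finset_compl', Finset.smul_finset_union, hgc, hga, ← ha_eq]
  have hgT : g • T = T := by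
    conv_lhs => rw [hTa]
    rw [smul_trioOf, hgc, hga, ← hTb]
  let x : ↥(MulAction.stabilizer ↥M24 T) := ⟨⟨g, hg⟩, (mem_famStab_iff _).mpr hgT⟩
  refine ⟨x, ?_⟩
  apply Equiv.ext
  intro t
  apply Subtype.ext
  rw [famHom_apply]
  change g • (t : Finset GolayPt) = _
  have ht : (t : Finset GolayPt) ∈ trioOf c a := by
    rw [← hTa]; exact t.2
  simp only [trioOf, Finset.mem_insert, Finset.mem_singleton] at ht
  rcases ht with h | h | h
  · have htc : t ≠ a := fun e => hca (by rw [← h, e])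
    have htc' : t ≠ b := fun e => hcb (by rw [← h, e])
    rw [Equiv.swap_apply_of_ne_of_ne htc htc', h, hgc]
  · have : t = a := Subtype.ext h
    rw [this, Equiv.swap_apply_left, hga]
  · have : t = b := Subtype.ext (h.trans hb_eq.symm)
    rw [this, Equiv.swap_apply_right, hgb]

theorem famHom_surjective {T : Finset (Finset GolayPt)} (hT : T ∈ trios) :
    Function.Surjective (famHom T) := by
  classical
  rw [← MonoidHom.range_eq_top, eq_top_iff, ← Equiv.Perm.closure_isSwap, Subgroup.closure_le]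
  rintro σ ⟨a, b, hab, rfl⟩
  exact swap_mem_range hT a b hab

theorem perm_induced {T : Finset (Finset GolayPt)} (hT : T ∈ trios) (e : Equiv.Perm ↥T) :
    ∃ g ∈ MulAction.stabilizer ↥M24 T, ∀ o : ↥T,
      (g : Equiv.Perm GolayPt) • (o : Finset GolayPt) = ((e o : ↥T) : Finset GolayPt) := by
  obtain ⟨x, hx⟩ := famHom_surjective hT e
  refine ⟨x.1, x.2, ?_⟩
  intro o
  rw [← hx, famHom_apply]

/-! ### the subgroups of the stabilizer of the standard trio -/

theorem tsS_real {j : ℕ} (hj : j < tsSN) : ∃ σ ∈ M24, IsTbl σ (tsS.acc j) :=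
  tsS.real tsS_ok j hj

theorem tsN_gens_real : ∀ t ∈ tsN.gens, ∃ σ ∈ M24, IsTbl σ t := by
  intro t ht
  change t ∈ tsNGens at ht
  rw [tsNGens_eq, List.mem_map] at ht
  obtain ⟨j, hj, rfl⟩ := ht
  have := List.all_eq_true.mp tsGenIdx_lt j (List.mem_append_left _ hj)
  rw [decide_eq_true_eq] at this
  exact tsS_real this

theorem tsL_gens_real : ∀ t ∈ tsL.gens, ∃ σ ∈ M24, IsTbl σ t := by
  intro t ht
  change t ∈ tsLGens at ht
  rw [tsLGens_eq, List.mem_map] at ht
  obtain ⟨j, hj, rfl⟩ := ht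
  have := List.all_eq_true.mp tsGenIdx_lt j (List.mem_append_right _ hj)
  rw [decide_eq_true_eq] at this
  exact tsS_real this

theorem tsN_good : tsN.Good := ⟨tsN_bfs, tsN_closed, tsN_sorted, tsN_gens_real⟩

theorem tsL_good : tsL.Good := ⟨tsL_bfs, tsL_closed, tsL_sorted, tsL_gens_real⟩

/-- the standard trio. -/
def T0 : Finset (Finset GolayPt) := famOf trG.e0

/-- the normal subgroup of order 64. -/
def N0 : Subgroup ↥M24 := tsN_good.sub

/-- the complement of order 1008. -/
def L0 : Subgroup ↥M24 := tsL_good.sub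

theorem card_N0 : Nat.card N0 = 64 := tsN_good.card_sub

theorem card_L0 : Nat.card L0 = 1008 := tsL_good.card_sub

theorem tbl_unique {σ : Equiv.Perm GolayPt} {t t' : List ℕ} (h : IsTbl σ t) (h' : IsTbl σ t') :
    t = t' := by
  rw [tbl_eq_tblOf h, tbl_eq_tblOf h']

theorem eq_of_tbl {x y : ↥M24} {t : List ℕ} (hx : IsTbl (x : Equiv.Perm GolayPt) t)
    (hy : IsTbl (y : Equiv.Perm GolayPt) t) : x = y :=
  Subtype.ext (hx.eq_of_eq hy)

theorem tbl_mul {x y : ↥M24} {s t : List ℕ} (hx : IsTbl (x : Equiv.Perm GolayPt) s)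
    (hy : IsTbl (y : Equiv.Perm GolayPt) t) :
    IsTbl ((x * y : ↥M24) : Equiv.Perm GolayPt) (mulT s t) := hx.mul hy

theorem eq_one_of_tbl {x : ↥M24} (hx : IsTbl (x : Equiv.Perm GolayPt) idT) : x = 1 :=
  eq_of_tbl hx isTbl_one

theorem exists_N0_of_tab {t : List ℕ} (ht : t ∈ tsN.tabs) :
    ∃ x : ↥M24, x ∈ N0 ∧ IsTbl (x : Equiv.Perm GolayPt) t := by
  obtain ⟨σ, hσ, hσt⟩ := tsN.real_tabs tsN_bfs tsN_gens_real t ht
  exact ⟨⟨σ, hσ⟩, ⟨t, ht, hσt⟩, hσt⟩

theorem N0_le (K : Subgroup ↥M24)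
    (hK : ∀ s ∈ tsN.gens, ∀ x : ↥M24, IsTbl ((x : ↥M24) : Equiv.Perm GolayPt) s → x ∈ K) :
    N0 ≤ K := tsN.subgroup_le tsN_bfs tsN_closed tsN_gens_real K hK

theorem L0_le (K : Subgroup ↥M24)
    (hK : ∀ s ∈ tsL.gens, ∀ x : ↥M24, IsTbl ((x : ↥M24) : Equiv.Perm GolayPt) s → x ∈ K) :
    L0 ≤ K := tsL.subgroup_le tsL_bfs tsL_closed tsL_gens_real K hK

theorem e0_ok : okMasks trG.e0 = true := by decide

theorem gen_mem_stab {s : List ℕ} (hs : s ∈ tsN.gens ++ tsL.gens) (x : ↥M24)
    (hx : IsTbl ((x : ↥M24) : Equiv.Perm GolayPt) s) : x ∈ MulAction.stabilizer ↥M24 T0 := by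
  have h := List.all_eq_true.mp ts_stab s hs
  rw [mem_famStab_iff]
  exact (invB_iff hx e0_ok).mp h

theorem N0_le_stab : N0 ≤ MulAction.stabilizer ↥M24 T0 :=
  N0_le _ (fun _ hs x hx => gen_mem_stab (List.mem_append_left _ hs) x hx)

theorem L0_le_stab : L0 ≤ MulAction.stabilizer ↥M24 T0 :=
  L0_le _ (fun _ hs x hx => gen_mem_stab (List.mem_append_right _ hs) x hx)

theorem L0_norm : ∀ k ∈ L0, ∀ q ∈ N0, k * q * k⁻¹ ∈ N0 := by
  have : L0 ≤ Subgroup.normalizer (N0 : Set ↥M24) := by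
    apply L0_le
    intro ks hks τ hτ
    have hc := List.all_eq_true.mp ts_norm ks hks
    rw [Subgroup.mem_normalizer_iff]
    intro h
    constructor
    · rintro ⟨q, hq, hhq⟩
      have h1 := List.all_eq_true.mp hc q hq
      rw [Bool.and_eq_true, List.any_eq_true, List.any_eq_true] at h1
      obtain ⟨t, ht, hte⟩ := h1.1
      rw [beq_iff_eq] at hte
      obtain ⟨y, hy, hyt⟩ := exists_N0_of_tab ht
      have e : y * τ = τ * h := by
        apply eq_of_tbl (tbl_mul hyt hτ)
        rw [hte]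
        exact tbl_mul hτ hhq
      have : τ * h * τ⁻¹ = y := by
        rw [← e, mul_inv_cancel_right]
      rw [this]
      exact hy
    · rintro ⟨q, hq, hhq⟩
      have h1 := List.all_eq_true.mp hc q hq
      rw [Bool.and_eq_true, List.any_eq_true, List.any_eq_true] at h1
      obtain ⟨t, ht, hte⟩ := h1.2
      rw [beq_iff_eq] at hte
      obtain ⟨y, hy, hyt⟩ := exists_N0_of_tab ht
      have e : τ * y = (τ * h * τ⁻¹) * τ := by
        apply eq_of_tbl (tbl_mul hτ hyt)
        rw [hte]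
        exact tbl_mul hhq hτ
      have : h = y := by
        have e2 : τ * y = τ * h := by
          rw [e]
          group
        exact (mul_left_cancel e2).symm
      rw [this]
      exact hy
  intro k hk q hq
  exact (Subgroup.mem_normalizer_iff.mp (this hk) q).mp hq

theorem N0_inter_L0 : ∀ x ∈ N0, x ∈ L0 → x = 1 := by
  rintro x ⟨t, ht, hxt⟩ ⟨t', ht', hxt'⟩
  have e := tbl_unique hxt hxt'
  subst e
  have h := List.all_eq_true.mp ts_inter t ht
  rw [Bool.or_eq_true, beq_iff_eq] at h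
  rcases h with h | h
  · subst h
    exact eq_one_of_tbl hxt
  · exfalso
    rw [Bool.not_eq_true', List.contains_eq_mem, decide_eq_false_iff_not] at h
    exact h ht'

theorem N0_sq : ∀ x ∈ N0, x * x = 1 := by
  rintro x ⟨t, ht, hxt⟩
  have h := List.all_eq_true.mp ts_sq t ht
  rw [beq_iff_eq] at h
  apply eq_one_of_tbl
  rw [← h]
  exact tbl_mul hxt hxt

/-! ### the order of the stabilizer -/

theorem orbit_trio {T : Finset (Finset GolayPt)} (hT : T ∈ trios) :
    MulAction.orbit ↥M24 T = trios := by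
  ext B
  constructor
  · rintro ⟨g, rfl⟩
    exact trios_inv₂ g.1 g.2 T hT
  · intro hB
    obtain ⟨h, hh, rfl⟩ := trios_transitive hT hB
    exact ⟨⟨h, hh⟩, rfl⟩

theorem card_stab_trio {T : Finset (Finset GolayPt)} (hT : T ∈ trios) :
    Nat.card (MulAction.stabilizer ↥M24 T) = 64512 := by
  have h1 := Subgroup.card_mul_index (MulAction.stabilizer ↥M24 T)
  rw [MulAction.index_stabilizer, orbit_trio hT, Cfsg.Agent.Lead.Steiner.trios_ncard] at h1
  have h2 : Nat.card ↥M24 = 244823040 := card_M24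
  rw [h2] at h1
  omega

/-! ### the complement -/

/-- the homomorphism from the complement to the matrices and the permutations. -/
noncomputable def homL : ↥L0 →* Matrix (Fin 3) (Fin 3) (ZMod 2) × Equiv.Perm (Fin 3) :=
  tsL_good.toHom tsPhi tsGam ts_phi_one ts_phi_next

theorem homL_injective : Function.Injective homL.toHomUnits := by
  rw [injective_iff_map_eq_one]
  intro g hg
  have hg' : homL g = 1 := by
    have := congrArg Units.val hg
    simpa using this
  have hg2 : tsPhi (tsL_good.idx g) = 1 := hg'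
  have hz := ts_phi_inj _ (tsL_good.idx_lt g) hg2
  have hs := tsL_good.idx_spec g
  rw [hz, tsL_good.z_facts.2] at hs
  exact Subtype.ext (Subtype.ext (hs.eq_of_eq isTbl_one))

theorem card_GL3 : Nat.card (GL (Fin 3) (ZMod 2)) = 168 := by
  rw [Matrix.card_GL_field, ZMod.card]
  simp [Fin.prod_univ_three]

/-- the units of the product as the product of the general linear group and the permutations. -/
noncomputable def unitsEquiv : (Matrix (Fin 3) (Fin 3) (ZMod 2) × Equiv.Perm (Fin 3))ˣ ≃*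
    GL (Fin 3) (ZMod 2) × Equiv.Perm (Fin 3) :=
  MulEquiv.prodUnits.trans (MulEquiv.prodCongr (MulEquiv.refl _) toUnits.symm)

theorem card_units : Nat.card (Matrix (Fin 3) (Fin 3) (ZMod 2) × Equiv.Perm (Fin 3))ˣ = 1008 := by
  rw [Nat.card_congr unitsEquiv.toEquiv, Nat.card_prod, card_GL3, Nat.card_eq_fintype_card,
    Fintype.card_perm, Fintype.card_fin]
  rfl

theorem iso_L0 : Nonempty (↥L0 ≃* GL (Fin 3) (ZMod 2) × Equiv.Perm (Fin 3)) := by
  have h1 : Function.Bijective homL.toHomUnits := by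
    apply homL_injective.bijective_of_nat_card_le
    rw [card_units, card_L0]
  exact ⟨(MulEquiv.ofBijective _ h1).trans unitsEquiv⟩

/-! ### the structure of the stabilizer -/

theorem T0_mem : T0 ∈ trios := trG_mem

theorem structure_T0 : ∃ (N : Subgroup ↥(MulAction.stabilizer ↥M24 T0)) (_ : N.Normal),
    Nat.card N = 64 ∧ (∀ x ∈ N, x * x = 1) ∧
    Nonempty (↥(MulAction.stabilizer ↥M24 T0) ⧸ N ≃* GL (Fin 3) (ZMod 2) × Equiv.Perm (Fin 3)) := by
  obtain ⟨hN, ⟨e⟩⟩ := split_structure (MulAction.stabilizer ↥M24 T0) N0 L0 N0_le_stab L0_le_stab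
    L0_norm N0_inter_L0 (by rw [card_stab_trio T0_mem, card_N0, card_L0])
  obtain ⟨e'⟩ := iso_L0
  refine ⟨N0.subgroupOf (MulAction.stabilizer ↥M24 T0), hN, ?_, ?_, ⟨e.trans e'⟩⟩
  · rw [Nat.card_congr (Subgroup.subgroupOfEquivOfLe N0_le_stab).toEquiv, card_N0]
  · intro x hx
    rw [Subgroup.mem_subgroupOf] at hx
    exact Subtype.ext (N0_sq _ hx)

theorem trio_structure (T : Finset (Finset GolayPt)) (hT : T ∈ trios) :
    (∀ e : Equiv.Perm ↥T, ∃ g ∈ MulAction.stabilizer ↥M24 T, ∀ o : ↥T,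
      (g : Equiv.Perm GolayPt) • (o : Finset GolayPt) = ((e o : ↥T) : Finset GolayPt)) ∧
    ∃ (N : Subgroup ↥(MulAction.stabilizer ↥M24 T)) (_ : N.Normal), Nat.card N = 64 ∧
      (∀ x ∈ N, x * x = 1) ∧
      Nonempty (↥(MulAction.stabilizer ↥M24 T) ⧸ N ≃*
        GL (Fin 3) (ZMod 2) × Equiv.Perm (Fin 3)) := by
  refine ⟨perm_induced hT, ?_⟩
  obtain ⟨g, hg, rfl⟩ := tr_trans T hT
  have ε : ↥(MulAction.stabilizer ↥M24 T0) ≃*
      ↥(MulAction.stabilizer ↥M24 (g • famOf trG.e0)) :=
    MulAction.stabilizerEquivStabilizer (G := ↥M24) (g := ⟨g, hg⟩) rfl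
  exact transfer_structure ε 64 structure_T0

end Cfsg.Agent.Helper9.Trio
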